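import Cfsg.Agent.Lib.Helper77.ASU8.Main8
import Cfsg.Agent.Lib.Helper47.UC.Final

set_option autoImplicit false

namespace Cfsg.Agent.Lib.Helper77.ASU8

open Cfsg Cfsg.Geo
open Cfsg.Agent.Lib.Helper77.Asch (NormBy MinOver)
open Cfsg.Agent.Lib.Helper32.AschU (SUg IsTv gram)
open Cfsg.Agent.Lib.Helper47.UC (max_eq subfield_ne_top q2_blocks q2_tensor not_le_decomp_V tv_not_mem_tensor
  tv_not_mem_fieldNormalizer' not_le_subfield_V form_swap)
open scoped MatrixGroups Matrix Kronecker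

variable {n : ℕ} {F : Type*} [Field F]

/-- normalised list of the possibilities for a maximal subgroup of `SU_n(q)`. -/
theorem maximal_cases8 [Fintype F] (q : ℕ) (hF : Fintype.card F = q ^ 2) (h5n : 5 ≤ n) (h2pow : ∃ j, n = 2 ^ j)
    (hpw : ∀ a k : ℕ, 2 ≤ k → n = a ^ k → a = 2) (hsq : ∀ s : ℕ, s * s ≠ n)
    (H : Subgroup (GL (Fin n) F)) (hH : IsMaximalIn (SUg n F q) H) :
    (∃ W : Submodule F (Fin n → F), W ≠ ⊥ ∧ IsTotallySingularFor (hermForm n F q) W ∧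
      H = subspaceStabilizer W ⊓ SUg n F q) ∨
    (∃ W : Submodule F (Fin n → F), W ≠ ⊥ ∧ IsNondegenerateOn (hermForm n F q) W ∧
      2 * Module.finrank F W < n ∧ H = subspaceStabilizer W ⊓ SUg n F q) ∨
    (∃ (t m : ℕ) (D : Fin t → Submodule F (Fin n → F)), t * m = n ∧ 2 ≤ t ∧ (m = 2 → 3 ≤ q) ∧
      IsNondegenerateMDecomposition (hermForm n F q) m D ∧ H = decompositionStabilizer D ⊓ SUg n F q) ∨
    (∃ (m : ℕ) (D : Fin 2 → Submodule F (Fin n → F)), 2 * m = n ∧ IsMDecomposition m D ∧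
      (∀ i, IsTotallySingularFor (hermForm n F q) (D i)) ∧ H = decompositionStabilizer D ⊓ SUg n F q) ∨
    (∃ (r : ℕ) (K : Subalgebra F (Matrix (Fin n) (Fin n) F)), r.Prime ∧ Odd r ∧ r ∣ n ∧ IsFieldSubalgebra r K ∧
      IsAdjointClosedFor (hermForm n F q) K ∧ H = subalgebraNormalizer K ⊓ SUg n F q) ∨
    (∃ (s k : ℕ) (e : Fin n ≃ Fin s × Fin k) (P : GL (Fin n) F) (f₁ : (Fin s → F) → (Fin s → F) → F)
      (f₂ : (Fin k → F) → (Fin k → F) → F), s * k = n ∧ 2 ≤ s ∧ s < k ∧ (s = 2 → 3 ≤ q) ∧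
      IsUnitaryFormPow q f₁ ∧ IsUnitaryFormPow q f₂ ∧
      IsTensorFormStructure (fun x : F => x ^ q) (hermForm n F q) f₁ f₂ e P ∧
      H = tensorProductSubgroup s k e P ⊓ SUg n F q) ∨
    (∃ (F₀ : Subfield F) (r : ℕ) (P : GL (Fin n) F), r.Prime ∧ Odd r ∧ Fintype.card F = Nat.card F₀ ^ r ∧
      IsFormRationalStructure (hermForm n F q) F₀ 1 P ∧ H = subfieldSubgroup F₀ P ⊓ SUg n F q) ∨
    (∃ (F₀ : Subfield F) (P : GL (Fin n) F) (ζ : F), Fintype.card F = Nat.card F₀ ^ 2 ∧ ζ ≠ 0 ∧ ζ + ζ ^ q = 0 ∧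
      IsFormRationalStructure (hermForm n F q) F₀ ζ P ∧
      (∀ u : Fin n → F, (∀ i, u i ∈ F₀) →
        hermForm n F q ((P : Matrix (Fin n) (Fin n) F) *ᵥ u) ((P : Matrix (Fin n) (Fin n) F) *ᵥ u) = 0) ∧
      H = subfieldSubgroup F₀ P ⊓ SUg n F q) ∨
    (Odd q ∧ ∃ (F₀ : Subfield F) (P : GL (Fin n) F), Fintype.card F = Nat.card F₀ ^ 2 ∧
      IsFormRationalStructure (hermForm n F q) F₀ 1 P ∧ H = subfieldSubgroup F₀ P ⊓ SUg n F q) ∨
    (∃ (p : ℕ) (R : Subgroup (GL (Fin n) F)), p.Prime ∧ q = p ∧ p % 4 = 3 ∧ IsSymplecticTypeGroup 2 R ∧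
      ActsAbsolutelyIrreducibly (matrixSet R) ∧ R ≤ similarityGroup (hermForm n F q) ∧ Nat.card R = 4 * n ^ 2 ∧
      Nat.card (Subgroup.center R) = 4 ∧ H = subgroupNormalizer R ⊓ SUg n F q) ∨
    InUnitaryResidualClass H := by
  have h4 : 4 ≤ n := by omega
  have hn : 0 < n := by omega
  have h2n : 2 ≤ n := by omega
  have hHU : H ≤ GU n F q := hH.1.le.trans inf_le_left
  have hq2 : 2 ≤ q := Cfsg.Agent.Lib.Helper17.two_le_of_card_sq hF
  obtain ⟨τ, hτ, hτv⟩ := Cfsg.Agent.Lib.Helper32.AschU.exists_isTv (n := n) q hF h2n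
  -- the non-degenerate decomposition alternative
  have alt3 : ∀ (t m : ℕ) (D : Fin t → Submodule F (Fin n → F)),
      IsNondegenerateMDecomposition (hermForm n F q) m D → H ≤ decompositionStabilizer D →
      ∃ (t m : ℕ) (D : Fin t → Submodule F (Fin n → F)), t * m = n ∧ 2 ≤ t ∧ (m = 2 → 3 ≤ q) ∧
      IsNondegenerateMDecomposition (hermForm n F q) m D ∧ H = decompositionStabilizer D ⊓ SUg n F q := by
    intro t m D hD hle
    have hdim := Cfsg.Agent.Lib.Helper5.AschC.decomp_dim D hD.decomp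
    have frame : ∀ D' : Fin n → Submodule F (Fin n → F), IsNondegenerateMDecomposition (hermForm n F q) 1 D' →
        H ≤ decompositionStabilizer D' →
        ∃ (t m : ℕ) (D : Fin t → Submodule F (Fin n → F)), t * m = n ∧ 2 ≤ t ∧ (m = 2 → 3 ≤ q) ∧
        IsNondegenerateMDecomposition (hermForm n F q) m D ∧ H = decompositionStabilizer D ⊓ SUg n F q :=
      fun D' hD' hle' => ⟨n, 1, D', by omega, h2n, by omega, hD',
        max_eq hH hle' (Cfsg.Agent.Lib.Helper32.AschU.not_le_decomp_U q hF h4 D' hD')⟩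
    by_cases hm1 : m = 1
    · subst hm1
      obtain rfl : t = n := by omega
      exact frame D hD hle
    have hm2 : 2 ≤ m := by
      have := hD.decomp.pos
      omega
    by_cases hbad : m = 2 ∧ q = 2
    · obtain ⟨rfl, rfl⟩ := hbad
      obtain ⟨D', hD', hle'⟩ := q2_blocks hF D hD
      exact frame D' hD' ((le_inf hle hHU).trans hle')
    · exact ⟨t, m, D, hdim, hD.decomp.two_le, by intro h; by_contra hc; exact hbad ⟨h, by omega⟩, hD,
        max_eq hH hle (not_le_decomp_V q hF h2n hm2 D hD.decomp)⟩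
  -- the tensor alternative, ordered
  have alt6 : ∀ (s k : ℕ) (e : Fin n ≃ Fin s × Fin k) (P : GL (Fin n) F) (f₁ : (Fin s → F) → (Fin s → F) → F)
      (f₂ : (Fin k → F) → (Fin k → F) → F), 2 ≤ s → s < k → IsUnitaryFormPow q f₁ → IsUnitaryFormPow q f₂ →
      IsTensorFormStructure (fun x : F => x ^ q) (hermForm n F q) f₁ f₂ e P →
      H ≤ tensorProductSubgroup s k e P →
      (∃ (t m : ℕ) (D : Fin t → Submodule F (Fin n → F)), t * m = n ∧ 2 ≤ t ∧ (m = 2 → 3 ≤ q) ∧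
        IsNondegenerateMDecomposition (hermForm n F q) m D ∧ H = decompositionStabilizer D ⊓ SUg n F q) ∨
      (∃ (s k : ℕ) (e : Fin n ≃ Fin s × Fin k) (P : GL (Fin n) F) (f₁ : (Fin s → F) → (Fin s → F) → F)
        (f₂ : (Fin k → F) → (Fin k → F) → F), s * k = n ∧ 2 ≤ s ∧ s < k ∧ (s = 2 → 3 ≤ q) ∧
        IsUnitaryFormPow q f₁ ∧ IsUnitaryFormPow q f₂ ∧
        IsTensorFormStructure (fun x : F => x ^ q) (hermForm n F q) f₁ f₂ e P ∧
        H = tensorProductSubgroup s k e P ⊓ SUg n F q) := by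
    intro s k e P f₁ f₂ hs hsk h1 h2 h3 hle
    have hcard : s * k = n := by
      have := Fintype.card_congr e
      simpa using this.symm
    by_cases hbad : s = 2 ∧ q = 2
    · obtain ⟨rfl, rfl⟩ := hbad
      obtain ⟨D, hD, hle'⟩ := q2_tensor hF (by omega) e P f₁ f₂ h1 h2 h3
      exact Or.inl (alt3 2 k D hD ((le_inf hle hHU).trans hle'))
    · exact Or.inr ⟨s, k, e, P, f₁, f₂, hcard, hs, hsk, by intro h; by_contra hc; exact hbad ⟨h, by omega⟩,
        h1, h2, h3, max_eq hH hle (fun hc => tv_not_mem_tensor hs (by omega) e P τ hτv (hc hτ))⟩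
  rcases main8 q hF h4 h2pow hpw H hHU with (hgeo | hc6) | hres
  rotate_left
  · obtain ⟨p, R, c1, c2, c3, c4, c5, c6, c7, c8, c9, c10⟩ := hc6
    exact Or.inr (Or.inr (Or.inr (Or.inr (Or.inr (Or.inr (Or.inr (Or.inr (Or.inr (Or.inl
      ⟨p, R, c1, c2, c3, c4, c5, c6, c7, c8,
        max_eq hH c10 (fun hc => tv_not_mem_normalizer h5n R c9 c5 τ hτv (hc hτ))⟩)))))))))
  · exact Or.inr (Or.inr (Or.inr (Or.inr (Or.inr (Or.inr (Or.inr (Or.inr (Or.inr (Or.inr hres)))))))))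
  rcases hgeo with ⟨W, h0, h1, h2⟩ | ⟨W, h0, h1, h2, h3⟩ | ⟨t, m, D, h1, h2⟩ | ⟨m, D, h1, h2, h3⟩ |
    ⟨r, A, h1, h2, h3, h4', h5⟩ | ⟨s, k, e, P, f₁, f₂, h1, h2, h3, h4', h5, h6⟩ | ⟨F₀, r, P, h1, h2, h3, h4', h5⟩ |
    ⟨F₀, P, ζ, h1, h2, h3, h4', h5, h6⟩ | ⟨h0, F₀, P, h1, h2, h3⟩
  · exact Or.inl ⟨W, h0, h1, max_eq hH h2 (Cfsg.Agent.Lib.Helper32.AschU.not_le_subspace_U q hF h2n W h0
      (Cfsg.Agent.Lib.Helper32.AschU.totSing_ne_top q hn W h1))⟩
  · refine Or.inr (Or.inl ⟨W, h0, h1, h2, max_eq hH h3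
      (Cfsg.Agent.Lib.Helper32.AschU.not_le_subspace_U q hF h2n W h0 ?_)⟩)
    rintro rfl
    rw [finrank_top, Module.finrank_fin_fun] at h2
    omega
  · exact Or.inr (Or.inr (Or.inl (alt3 t m D h1 h2)))
  · have hdim := Cfsg.Agent.Lib.Helper5.AschC.decomp_dim D h1
    exact Or.inr (Or.inr (Or.inr (Or.inl ⟨m, D, hdim, h1, h2,
      max_eq hH h3 (not_le_decomp_V q hF h2n (by omega) D h1)⟩)))
  · exact Or.inr (Or.inr (Or.inr (Or.inr (Or.inl ⟨r, A, h1, h2,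
      Cfsg.Agent.Lib.Helper77.Asch.deg_dvd hn r A h3, h3, h4',
      max_eq hH h5 (fun hc => tv_not_mem_fieldNormalizer' (by omega) r h1.one_lt A h3 τ hτv (hc hτ))⟩))))
  · have hcard : s * k = n := by
      have := Fintype.card_congr e
      simpa using this.symm
    have hne : s ≠ k := by
      rintro rfl
      exact hsq s hcard
    rcases lt_or_gt_of_ne hne with hlt | hgt
    · rcases alt6 s k e P f₁ f₂ h1 hlt h3 h4' h5 h6 with h | h
      · exact Or.inr (Or.inr (Or.inl h))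
      · exact Or.inr (Or.inr (Or.inr (Or.inr (Or.inr (Or.inl h)))))
    · rcases alt6 k s (e.trans (Equiv.prodComm _ _)) P f₂ f₁ h2 hgt h4' h3 (form_swap _ _ f₁ f₂ e P h5)
        (h6.trans (Cfsg.Agent.Lib.Helper80.AS.tensor_swap e P).le) with h | h
      · exact Or.inr (Or.inr (Or.inl h))
      · exact Or.inr (Or.inr (Or.inr (Or.inr (Or.inr (Or.inl h)))))
  · exact Or.inr (Or.inr (Or.inr (Or.inr (Or.inr (Or.inr (Or.inl ⟨F₀, r, P, h1, h2, h3, h4',
      max_eq hH h5 (not_le_subfield_V q hF h4 F₀ (subfield_ne_top F₀ r h1.two_le h3) P)⟩))))))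
  · exact Or.inr (Or.inr (Or.inr (Or.inr (Or.inr (Or.inr (Or.inr (Or.inl ⟨F₀, P, ζ, h1, h2, h3, h4', h5,
      max_eq hH h6 (not_le_subfield_V q hF h4 F₀ (subfield_ne_top F₀ 2 le_rfl h1) P)⟩)))))))
  · exact Or.inr (Or.inr (Or.inr (Or.inr (Or.inr (Or.inr (Or.inr (Or.inr (Or.inl ⟨h0, F₀, P, h1, h2,
      max_eq hH h3 (not_le_subfield_V q hF h4 F₀ (subfield_ne_top F₀ 2 le_rfl h1) P)⟩))))))))

end Cfsg.Agent.Lib.Helper77.ASU8
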